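import Cfsg.Agent.Spor.L37a.D0

set_option autoImplicit false
set_option maxRecDepth 100000000
set_option Elab.async false

namespace Cfsg.Agent.Spor.L37a

theorem ok0 : Net.okb 13 n0 = true := by decide +kernel

theorem ok1 : Net.okb 13 n1 = true := by decide +kernel

theorem ok2 : Net.okb 13 n2 = true := by decide +kernel

theorem ok3 : Net.okb 13 n3 = true := by decide +kernel

theorem ok4 : Net.okb 13 n4 = true := by decide +kernel

theorem rel0 : T.rel 13 [1, 1, 1] 0 13 = true := by decide +kernel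

theorem rel1 : T.rel 13 [2, 2] 0 13 = true := by decide +kernel

theorem rel2 : T.rel 13 [3, 3] 0 13 = true := by decide +kernel

theorem rel3 : T.rel 13 [4, 4] 0 13 = true := by decide +kernel

theorem rel4 : T.rel 13 [5, 5] 0 13 = true := by decide +kernel

theorem rel5 : T.rel 13 [2, 6, 2, 6, 2, 6] 0 13 = true := by decide +kernel

theorem rel6 : T.rel 13 [3, 6, 3, 6] 0 13 = true := by decide +kernel

theorem rel7 : T.rel 13 [4, 6, 4, 6] 0 13 = true := by decide +kernel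

theorem rel8 : T.rel 13 [5, 6, 5, 6] 0 13 = true := by decide +kernel

theorem rel9 : T.rel 13 [3, 7, 3, 7, 3, 7, 3, 7, 3, 7, 3, 7, 3, 7, 3, 7] 0 13 = true := by decide +kernel

theorem rel10 : T.rel 13 [4, 7, 4, 7] 0 13 = true := by decide +kernel

theorem rel11 : T.rel 13 [5, 7, 5, 7] 0 13 = true := by decide +kernel

theorem rel12 : T.rel 13 [4, 8, 4, 8, 4, 8] 0 13 = true := by decide +kernel

theorem rel13 : T.rel 13 [5, 8, 5, 8] 0 13 = true := by decide +kernel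

theorem rel14 : T.rel 13 [5, 9, 5, 9, 5, 9] 0 13 = true := by decide +kernel

theorem rel15 : T.rel 13 [2, 8, 2, 8, 2, 8, 2, 8, 5] 0 13 = true := by decide +kernel

theorem rel16 : T.rel 13 [7, 3, 7, 3, 7, 3, 7, 3, 10] 0 13 = true := by decide +kernel

theorem hcov : T.treeCov (ones 5586) L 1 = true := by decide +kernel

theorem hg : lall (fun z => band (memL L z) (band (sub (ones 5586) (T.let z).cl) (T.closed (ones 5586) z))) gs = true := by decide +kernel

theorem rot1_1 : T.rot 1 [6] (sel (ones 5586) ip1 1) = true := by decide +kernel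

theorem rot1_1r : band (Rule.ok (2 * 0) EX RL ⟨1 :: [6], [], 17, false⟩) (lall (memL L) [6]) = true := by decide +kernel

theorem rot1_2 : T.rot 1 [1, 1] (sel (ones 5586) ip1 2) = true := by decide +kernel

theorem rot1_2r : band (Rule.ok (2 * 0) EX RL ⟨1 :: [1, 1], [], 0, true⟩) (lall (memL L) [1, 1]) = true := by decide +kernel

theorem rot1_3 : T.rot 1 [8, 1, 8] (sel (ones 5586) ip1 3) = true := by decide +kernel

theorem rot1_3r : band (Rule.ok (2 * 0) EX RL ⟨1 :: [8, 1, 8], [], 6, false⟩) (lall (memL L) [8, 1, 8]) = true := by decide +kernel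

theorem rot1_4 : T.rot 1 [9, 1, 9] (sel (ones 5586) ip1 4) = true := by decide +kernel

theorem rot1_4r : band (Rule.ok (2 * 0) EX RL ⟨1 :: [9, 1, 9], [], 7, false⟩) (lall (memL L) [9, 1, 9]) = true := by decide +kernel

theorem rot1_5 : T.rot 1 [10, 1, 10] (sel (ones 5586) ip1 5) = true := by decide +kernel

theorem rot1_5r : band (Rule.ok (2 * 0) EX RL ⟨1 :: [10, 1, 10], [], 8, false⟩) (lall (memL L) [10, 1, 10]) = true := by decide +kernel

theorem rot1_6 : T.rot 1 [7, 1, 7, 1, 7] (sel (ones 5586) ip1 6) = true := by decide +kernel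

theorem rot1_6r : band (Rule.ok (2 * 0) EX RL ⟨1 :: [7, 1, 7, 1, 7], [], 5, false⟩) (lall (memL L) [7, 1, 7, 1, 7]) = true := by decide +kernel

theorem cov1 : T.cover 1 [(sel (ones 5586) ip1 1), (sel (ones 5586) ip1 2), (sel (ones 5586) ip1 3), (sel (ones 5586) ip1 4), (sel (ones 5586) ip1 5), (sel (ones 5586) ip1 6), 1] = true := by decide +kernel

theorem tl1 : T.treeLt 13 1 = true := by decide +kernel

theorem rot2_1 : T.rot 2 [7] (sel (ones 5586) ip2 1) = true := by decide +kernel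

theorem rot2_1r : band (Rule.ok (2 * 0) EX RL ⟨2 :: [7], [], 17, false⟩) (lall (memL L) [7]) = true := by decide +kernel

theorem rot2_2 : T.rot 2 [2] (sel (ones 5586) ip2 2) = true := by decide +kernel

theorem rot2_2r : band (Rule.ok (2 * 0) EX RL ⟨2 :: [2], [], 1, true⟩) (lall (memL L) [2]) = true := by decide +kernel

theorem rot2_3 : T.rot 2 [9, 2, 9] (sel (ones 5586) ip2 3) = true := by decide +kernel

theorem rot2_3r : band (Rule.ok (2 * 0) EX RL ⟨2 :: [9, 2, 9], [], 10, false⟩) (lall (memL L) [9, 2, 9]) = true := by decide +kernel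

theorem rot2_4 : T.rot 2 [10, 2, 10] (sel (ones 5586) ip2 4) = true := by decide +kernel

theorem rot2_4r : band (Rule.ok (2 * 0) EX RL ⟨2 :: [10, 2, 10], [], 11, false⟩) (lall (memL L) [10, 2, 10]) = true := by decide +kernel

theorem rot2_5 : T.rot 2 [6, 2, 6, 2, 6] (sel (ones 5586) ip2 5) = true := by decide +kernel

theorem rot2_5r : band (Rule.ok (2 * 0) EX RL ⟨2 :: [6, 2, 6, 2, 6], [], 5, true⟩) (lall (memL L) [6, 2, 6, 2, 6]) = true := by decide +kernel

theorem rot2_6 : T.rot 2 [8, 2, 8, 2, 8, 2, 8, 5] (sel (ones 5586) ip2 6) = true := by decide +kernel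

theorem rot2_6r : band (Rule.ok (2 * 0) EX RL ⟨2 :: [8, 2, 8, 2, 8, 2, 8, 5], [], 15, true⟩) (lall (memL L) [8, 2, 8, 2, 8, 2, 8, 5]) = true := by decide +kernel

theorem rot2_7 : T.rot 2 [8, 2, 8, 2, 8, 5, 2, 8] (sel (ones 5586) ip2 7) = true := by decide +kernel

theorem rot2_7r : band (Rule.ok (2 * 0) EX RL ⟨2 :: [8, 2, 8, 2, 8, 5, 2, 8], [3, 4], 15, true⟩) (lall (memL L) [8, 2, 8, 2, 8, 5, 2, 8]) = true := by decide +kernel

theorem rot2_8 : T.rot 2 [8, 2, 8, 5, 2, 8, 2, 8] (sel (ones 5586) ip2 8) = true := by decide +kernel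

theorem rot2_8r : band (Rule.ok (2 * 0) EX RL ⟨2 :: [8, 2, 8, 5, 2, 8, 2, 8], [3, 4, 3, 4], 15, true⟩) (lall (memL L) [8, 2, 8, 5, 2, 8, 2, 8]) = true := by decide +kernel

theorem rot2_9 : T.rot 2 [8, 5, 2, 8, 2, 8, 2, 8] (sel (ones 5586) ip2 9) = true := by decide +kernel

theorem rot2_9r : band (Rule.ok (2 * 0) EX RL ⟨2 :: [8, 5, 2, 8, 2, 8, 2, 8], [8, 5, 2], 15, true⟩) (lall (memL L) [8, 5, 2, 8, 2, 8, 2, 8]) = true := by decide +kernel

theorem rot2_10 : T.rot 2 [8, 2, 8, 2, 8, 2, 5, 8] (sel (ones 5586) ip2 10) = true := by decide +kernel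

theorem rot2_10r : band (Rule.ok (2 * 0) EX RL ⟨2 :: [8, 2, 8, 2, 8, 2, 5, 8], [9, 4], 16, false⟩) (lall (memL L) [8, 2, 8, 2, 8, 2, 5, 8]) = true := by decide +kernel

theorem rot2_11 : T.rot 2 [8, 2, 8, 2, 5, 8, 2, 8] (sel (ones 5586) ip2 11) = true := by decide +kernel

theorem rot2_11r : band (Rule.ok (2 * 0) EX RL ⟨2 :: [8, 2, 8, 2, 5, 8, 2, 8], [9, 4, 3, 4], 16, false⟩) (lall (memL L) [8, 2, 8, 2, 5, 8, 2, 8]) = true := by decide +kernel

theorem rot2_12 : T.rot 2 [8, 2, 5, 8, 2, 8, 2, 8] (sel (ones 5586) ip2 12) = true := by decide +kernel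

theorem rot2_12r : band (Rule.ok (2 * 0) EX RL ⟨2 :: [8, 2, 5, 8, 2, 8, 2, 8], [2, 5, 2], 16, false⟩) (lall (memL L) [8, 2, 5, 8, 2, 8, 2, 8]) = true := by decide +kernel

theorem rot2_13 : T.rot 2 [5, 8, 2, 8, 2, 8, 2, 8] (sel (ones 5586) ip2 13) = true := by decide +kernel

theorem rot2_13r : band (Rule.ok (2 * 0) EX RL ⟨2 :: [5, 8, 2, 8, 2, 8, 2, 8], [2], 16, false⟩) (lall (memL L) [5, 8, 2, 8, 2, 8, 2, 8]) = true := by decide +kernel

theorem rot2_14 : T.rot 2 [8, 2, 8, 2, 8, 2, 8, 2, 8, 2, 8, 2, 8, 2, 8] (sel (ones 5586) ip2 14) = true := by decide +kernel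

theorem rot2_14r : band (Rule.ok (2 * 0) EX RL ⟨2 :: [8, 2, 8, 2, 8, 2, 8, 2, 8, 2, 8, 2, 8, 2, 8], [], 9, false⟩) (lall (memL L) [8, 2, 8, 2, 8, 2, 8, 2, 8, 2, 8, 2, 8, 2, 8]) = true := by decide +kernel

theorem cov2 : T.cover 2 [(sel (ones 5586) ip2 1), (sel (ones 5586) ip2 2), (sel (ones 5586) ip2 3), (sel (ones 5586) ip2 4), (sel (ones 5586) ip2 5), (sel (ones 5586) ip2 6), (sel (ones 5586) ip2 7), (sel (ones 5586) ip2 8), (sel (ones 5586) ip2 9), (sel (ones 5586) ip2 10), (sel (ones 5586) ip2 11), (sel (ones 5586) ip2 12), (sel (ones 5586) ip2 13), (sel (ones 5586) ip2 14), 1] = true := by decide +kernel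

theorem tl2 : T.treeLt 13 2 = true := by decide +kernel

theorem rot3_1 : T.rot 3 [8] (sel (ones 5586) ip3 1) = true := by decide +kernel

theorem rot3_1r : band (Rule.ok (2 * 0) EX RL ⟨3 :: [8], [], 17, false⟩) (lall (memL L) [8]) = true := by decide +kernel

theorem rot3_2 : T.rot 3 [3] (sel (ones 5586) ip3 2) = true := by decide +kernel

theorem rot3_2r : band (Rule.ok (2 * 0) EX RL ⟨3 :: [3], [], 2, true⟩) (lall (memL L) [3]) = true := by decide +kernel

theorem rot3_3 : T.rot 3 [6, 3, 6] (sel (ones 5586) ip3 3) = true := by decide +kernel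

theorem rot3_3r : band (Rule.ok (2 * 0) EX RL ⟨3 :: [6, 3, 6], [], 6, true⟩) (lall (memL L) [6, 3, 6]) = true := by decide +kernel

theorem rot3_4 : T.rot 3 [10, 3, 10] (sel (ones 5586) ip3 4) = true := by decide +kernel

theorem rot3_4r : band (Rule.ok (2 * 0) EX RL ⟨3 :: [10, 3, 10], [], 13, false⟩) (lall (memL L) [10, 3, 10]) = true := by decide +kernel

theorem rot3_5 : T.rot 3 [9, 3, 9, 3, 9] (sel (ones 5586) ip3 5) = true := by decide +kernel

theorem rot3_5r : band (Rule.ok (2 * 0) EX RL ⟨3 :: [9, 3, 9, 3, 9], [], 12, false⟩) (lall (memL L) [9, 3, 9, 3, 9]) = true := by decide +kernel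

theorem rot3_6 : T.rot 3 [7, 3, 7, 3, 7, 3, 7, 10] (sel (ones 5586) ip3 6) = true := by decide +kernel

theorem rot3_6r : band (Rule.ok (2 * 0) EX RL ⟨3 :: [7, 3, 7, 3, 7, 3, 7, 10], [8], 15, false⟩) (lall (memL L) [7, 3, 7, 3, 7, 3, 7, 10]) = true := by decide +kernel

theorem rot3_7 : T.rot 3 [7, 3, 7, 3, 7, 10, 3, 7] (sel (ones 5586) ip3 7) = true := by decide +kernel

theorem rot3_7r : band (Rule.ok (2 * 0) EX RL ⟨3 :: [7, 3, 7, 3, 7, 10, 3, 7], [8, 5, 2], 15, false⟩) (lall (memL L) [7, 3, 7, 3, 7, 10, 3, 7]) = true := by decide +kernel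

theorem rot3_8 : T.rot 3 [7, 3, 7, 10, 3, 7, 3, 7] (sel (ones 5586) ip3 8) = true := by decide +kernel

theorem rot3_8r : band (Rule.ok (2 * 0) EX RL ⟨3 :: [7, 3, 7, 10, 3, 7, 3, 7], [3, 4, 3, 4], 15, false⟩) (lall (memL L) [7, 3, 7, 10, 3, 7, 3, 7]) = true := by decide +kernel

theorem rot3_9 : T.rot 3 [7, 10, 3, 7, 3, 7, 3, 7] (sel (ones 5586) ip3 9) = true := by decide +kernel

theorem rot3_9r : band (Rule.ok (2 * 0) EX RL ⟨3 :: [7, 10, 3, 7, 3, 7, 3, 7], [3, 4], 15, false⟩) (lall (memL L) [7, 10, 3, 7, 3, 7, 3, 7]) = true := by decide +kernel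

theorem rot3_10 : T.rot 3 [7, 3, 7, 3, 7, 3, 10, 7] (sel (ones 5586) ip3 10) = true := by decide +kernel

theorem rot3_10r : band (Rule.ok (2 * 0) EX RL ⟨3 :: [7, 3, 7, 3, 7, 3, 10, 7], [2], 16, true⟩) (lall (memL L) [7, 3, 7, 3, 7, 3, 10, 7]) = true := by decide +kernel

theorem rot3_11 : T.rot 3 [7, 3, 7, 3, 10, 7, 3, 7] (sel (ones 5586) ip3 11) = true := by decide +kernel

theorem rot3_11r : band (Rule.ok (2 * 0) EX RL ⟨3 :: [7, 3, 7, 3, 10, 7, 3, 7], [2, 5, 2], 16, true⟩) (lall (memL L) [7, 3, 7, 3, 10, 7, 3, 7]) = true := by decide +kernel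

theorem rot3_12 : T.rot 3 [7, 3, 10, 7, 3, 7, 3, 7] (sel (ones 5586) ip3 12) = true := by decide +kernel

theorem rot3_12r : band (Rule.ok (2 * 0) EX RL ⟨3 :: [7, 3, 10, 7, 3, 7, 3, 7], [9, 4, 3, 4], 16, true⟩) (lall (memL L) [7, 3, 10, 7, 3, 7, 3, 7]) = true := by decide +kernel

theorem rot3_13 : T.rot 3 [10, 7, 3, 7, 3, 7, 3, 7] (sel (ones 5586) ip3 13) = true := by decide +kernel

theorem rot3_13r : band (Rule.ok (2 * 0) EX RL ⟨3 :: [10, 7, 3, 7, 3, 7, 3, 7], [9, 4], 16, true⟩) (lall (memL L) [10, 7, 3, 7, 3, 7, 3, 7]) = true := by decide +kernel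

theorem rot3_14 : T.rot 3 [7, 3, 7, 3, 7, 3, 7, 3, 7, 3, 7, 3, 7, 3, 7] (sel (ones 5586) ip3 14) = true := by decide +kernel

theorem rot3_14r : band (Rule.ok (2 * 0) EX RL ⟨3 :: [7, 3, 7, 3, 7, 3, 7, 3, 7, 3, 7, 3, 7, 3, 7], [], 9, true⟩) (lall (memL L) [7, 3, 7, 3, 7, 3, 7, 3, 7, 3, 7, 3, 7, 3, 7]) = true := by decide +kernel

theorem cov3 : T.cover 3 [(sel (ones 5586) ip3 1), (sel (ones 5586) ip3 2), (sel (ones 5586) ip3 3), (sel (ones 5586) ip3 4), (sel (ones 5586) ip3 5), (sel (ones 5586) ip3 6), (sel (ones 5586) ip3 7), (sel (ones 5586) ip3 8), (sel (ones 5586) ip3 9), (sel (ones 5586) ip3 10), (sel (ones 5586) ip3 11), (sel (ones 5586) ip3 12), (sel (ones 5586) ip3 13), (sel (ones 5586) ip3 14), 1] = true := by decide +kernel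

theorem tl3 : T.treeLt 13 3 = true := by decide +kernel

theorem rot4_1 : T.rot 4 [9] (sel (ones 5586) ip4 1) = true := by decide +kernel

theorem rot4_1r : band (Rule.ok (2 * 0) EX RL ⟨4 :: [9], [], 17, false⟩) (lall (memL L) [9]) = true := by decide +kernel

theorem rot4_2 : T.rot 4 [4] (sel (ones 5586) ip4 2) = true := by decide +kernel

theorem rot4_2r : band (Rule.ok (2 * 0) EX RL ⟨4 :: [4], [], 3, true⟩) (lall (memL L) [4]) = true := by decide +kernel

theorem rot4_3 : T.rot 4 [6, 4, 6] (sel (ones 5586) ip4 3) = true := by decide +kernel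

theorem rot4_3r : band (Rule.ok (2 * 0) EX RL ⟨4 :: [6, 4, 6], [], 7, true⟩) (lall (memL L) [6, 4, 6]) = true := by decide +kernel

theorem rot4_4 : T.rot 4 [7, 4, 7] (sel (ones 5586) ip4 4) = true := by decide +kernel

theorem rot4_4r : band (Rule.ok (2 * 0) EX RL ⟨4 :: [7, 4, 7], [], 10, true⟩) (lall (memL L) [7, 4, 7]) = true := by decide +kernel

theorem rot4_5 : T.rot 4 [8, 4, 8, 4, 8] (sel (ones 5586) ip4 5) = true := by decide +kernel

theorem rot4_5r : band (Rule.ok (2 * 0) EX RL ⟨4 :: [8, 4, 8, 4, 8], [], 12, true⟩) (lall (memL L) [8, 4, 8, 4, 8]) = true := by decide +kernel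

theorem rot4_6 : T.rot 4 [10, 4, 10, 4, 10] (sel (ones 5586) ip4 6) = true := by decide +kernel

theorem rot4_6r : band (Rule.ok (2 * 0) EX RL ⟨4 :: [10, 4, 10, 4, 10], [], 14, false⟩) (lall (memL L) [10, 4, 10, 4, 10]) = true := by decide +kernel

theorem cov4 : T.cover 4 [(sel (ones 5586) ip4 1), (sel (ones 5586) ip4 2), (sel (ones 5586) ip4 3), (sel (ones 5586) ip4 4), (sel (ones 5586) ip4 5), (sel (ones 5586) ip4 6)] = true := by decide +kernel

theorem tl4 : T.treeLt 13 4 = true := by decide +kernel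

theorem rot5_1 : T.rot 5 [10] (sel (ones 5586) ip5 1) = true := by decide +kernel

theorem rot5_1r : band (Rule.ok (2 * 0) EX RL ⟨5 :: [10], [], 17, false⟩) (lall (memL L) [10]) = true := by decide +kernel

theorem rot5_2 : T.rot 5 [5] (sel (ones 5586) ip5 2) = true := by decide +kernel

theorem rot5_2r : band (Rule.ok (2 * 0) EX RL ⟨5 :: [5], [], 4, true⟩) (lall (memL L) [5]) = true := by decide +kernel

theorem rot5_3 : T.rot 5 [6, 5, 6] (sel (ones 5586) ip5 3) = true := by decide +kernel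

theorem rot5_3r : band (Rule.ok (2 * 0) EX RL ⟨5 :: [6, 5, 6], [], 8, true⟩) (lall (memL L) [6, 5, 6]) = true := by decide +kernel

theorem rot5_4 : T.rot 5 [7, 5, 7] (sel (ones 5586) ip5 4) = true := by decide +kernel

theorem rot5_4r : band (Rule.ok (2 * 0) EX RL ⟨5 :: [7, 5, 7], [], 11, true⟩) (lall (memL L) [7, 5, 7]) = true := by decide +kernel

theorem rot5_5 : T.rot 5 [8, 5, 8] (sel (ones 5586) ip5 5) = true := by decide +kernel

theorem rot5_5r : band (Rule.ok (2 * 0) EX RL ⟨5 :: [8, 5, 8], [], 13, true⟩) (lall (memL L) [8, 5, 8]) = true := by decide +kernel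

theorem rot5_6 : T.rot 5 [9, 5, 9, 5, 9] (sel (ones 5586) ip5 6) = true := by decide +kernel

theorem rot5_6r : band (Rule.ok (2 * 0) EX RL ⟨5 :: [9, 5, 9, 5, 9], [], 14, true⟩) (lall (memL L) [9, 5, 9, 5, 9]) = true := by decide +kernel

theorem rot5_7 : T.rot 5 [2, 8, 2, 8, 2, 8, 2, 8] (sel (ones 5586) ip5 7) = true := by decide +kernel

theorem rot5_7r : band (Rule.ok (2 * 0) EX RL ⟨5 :: [2, 8, 2, 8, 2, 8, 2, 8], [8], 15, true⟩) (lall (memL L) [2, 8, 2, 8, 2, 8, 2, 8]) = true := by decide +kernel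

theorem rot5_8 : T.rot 5 [8, 2, 8, 2, 8, 2, 8, 2] (sel (ones 5586) ip5 8) = true := by decide +kernel

theorem rot5_8r : band (Rule.ok (2 * 0) EX RL ⟨5 :: [8, 2, 8, 2, 8, 2, 8, 2], [], 16, false⟩) (lall (memL L) [8, 2, 8, 2, 8, 2, 8, 2]) = true := by decide +kernel

theorem cov5 : T.cover 5 [(sel (ones 5586) ip5 1), (sel (ones 5586) ip5 2), (sel (ones 5586) ip5 3), (sel (ones 5586) ip5 4), (sel (ones 5586) ip5 5), (sel (ones 5586) ip5 6), (sel (ones 5586) ip5 7), (sel (ones 5586) ip5 8), 1] = true := by decide +kernel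

theorem tl5 : T.treeLt 13 5 = true := by decide +kernel

theorem rot6_1 : T.rot 6 [1] (sel (ones 5586) ip6 1) = true := by decide +kernel

theorem rot6_1r : band (Rule.ok (2 * 0) EX RL ⟨6 :: [1], [], 17, false⟩) (lall (memL L) [1]) = true := by decide +kernel

theorem rot6_2 : T.rot 6 [6, 6] (sel (ones 5586) ip6 2) = true := by decide +kernel

theorem rot6_2r : band (Rule.ok (2 * 0) EX RL ⟨6 :: [6, 6], [], 0, false⟩) (lall (memL L) [6, 6]) = true := by decide +kernel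

theorem rot6_3 : T.rot 6 [3, 6, 3] (sel (ones 5586) ip6 3) = true := by decide +kernel

theorem rot6_3r : band (Rule.ok (2 * 0) EX RL ⟨6 :: [3, 6, 3], [1], 6, true⟩) (lall (memL L) [3, 6, 3]) = true := by decide +kernel

theorem rot6_4 : T.rot 6 [4, 6, 4] (sel (ones 5586) ip6 4) = true := by decide +kernel

theorem rot6_4r : band (Rule.ok (2 * 0) EX RL ⟨6 :: [4, 6, 4], [1], 7, true⟩) (lall (memL L) [4, 6, 4]) = true := by decide +kernel

theorem rot6_5 : T.rot 6 [5, 6, 5] (sel (ones 5586) ip6 5) = true := by decide +kernel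

theorem rot6_5r : band (Rule.ok (2 * 0) EX RL ⟨6 :: [5, 6, 5], [1], 8, true⟩) (lall (memL L) [5, 6, 5]) = true := by decide +kernel

theorem rot6_6 : T.rot 6 [2, 6, 2, 6, 2] (sel (ones 5586) ip6 6) = true := by decide +kernel

theorem rot6_6r : band (Rule.ok (2 * 0) EX RL ⟨6 :: [2, 6, 2, 6, 2], [1], 5, true⟩) (lall (memL L) [2, 6, 2, 6, 2]) = true := by decide +kernel

theorem cov6 : T.cover 6 [(sel (ones 5586) ip6 1), (sel (ones 5586) ip6 2), (sel (ones 5586) ip6 3), (sel (ones 5586) ip6 4), (sel (ones 5586) ip6 5), (sel (ones 5586) ip6 6)] = true := by decide +kernel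

theorem tl6 : T.treeLt 13 6 = true := by decide +kernel

theorem rot7_1 : T.rot 7 [2] (sel (ones 5586) ip7 1) = true := by decide +kernel

theorem rot7_1r : band (Rule.ok (2 * 0) EX RL ⟨7 :: [2], [], 17, false⟩) (lall (memL L) [2]) = true := by decide +kernel

theorem rot7_2 : T.rot 7 [7] (sel (ones 5586) ip7 2) = true := by decide +kernel

theorem rot7_2r : band (Rule.ok (2 * 0) EX RL ⟨7 :: [7], [], 1, false⟩) (lall (memL L) [7]) = true := by decide +kernel

theorem rot7_3 : T.rot 7 [4, 7, 4] (sel (ones 5586) ip7 3) = true := by decide +kernel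

theorem rot7_3r : band (Rule.ok (2 * 0) EX RL ⟨7 :: [4, 7, 4], [3], 10, true⟩) (lall (memL L) [4, 7, 4]) = true := by decide +kernel

theorem rot7_4 : T.rot 7 [5, 7, 5] (sel (ones 5586) ip7 4) = true := by decide +kernel

theorem rot7_4r : band (Rule.ok (2 * 0) EX RL ⟨7 :: [5, 7, 5], [3], 11, true⟩) (lall (memL L) [5, 7, 5]) = true := by decide +kernel

theorem rot7_5 : T.rot 7 [1, 7, 1, 7, 1] (sel (ones 5586) ip7 5) = true := by decide +kernel

theorem rot7_5r : band (Rule.ok (2 * 0) EX RL ⟨7 :: [1, 7, 1, 7, 1], [3], 5, false⟩) (lall (memL L) [1, 7, 1, 7, 1]) = true := by decide +kernel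

theorem rot7_6 : T.rot 7 [3, 7, 3, 7, 3, 7, 10, 3] (sel (ones 5586) ip7 6) = true := by decide +kernel

theorem rot7_6r : band (Rule.ok (2 * 0) EX RL ⟨7 :: [3, 7, 3, 7, 3, 7, 10, 3], [8, 5], 15, false⟩) (lall (memL L) [3, 7, 3, 7, 3, 7, 10, 3]) = true := by decide +kernel

theorem rot7_7 : T.rot 7 [3, 7, 3, 7, 10, 3, 7, 3] (sel (ones 5586) ip7 7) = true := by decide +kernel

theorem rot7_7r : band (Rule.ok (2 * 0) EX RL ⟨7 :: [3, 7, 3, 7, 10, 3, 7, 3], [8, 5, 2, 5], 15, false⟩) (lall (memL L) [3, 7, 3, 7, 10, 3, 7, 3]) = true := by decide +kernel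

theorem rot7_8 : T.rot 7 [3, 7, 10, 3, 7, 3, 7, 3] (sel (ones 5586) ip7 8) = true := by decide +kernel

theorem rot7_8r : band (Rule.ok (2 * 0) EX RL ⟨7 :: [3, 7, 10, 3, 7, 3, 7, 3], [3, 4, 3], 15, false⟩) (lall (memL L) [3, 7, 10, 3, 7, 3, 7, 3]) = true := by decide +kernel

theorem rot7_9 : T.rot 7 [10, 3, 7, 3, 7, 3, 7, 3] (sel (ones 5586) ip7 9) = true := by decide +kernel

theorem rot7_9r : band (Rule.ok (2 * 0) EX RL ⟨7 :: [10, 3, 7, 3, 7, 3, 7, 3], [3], 15, false⟩) (lall (memL L) [10, 3, 7, 3, 7, 3, 7, 3]) = true := by decide +kernel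

theorem rot7_10 : T.rot 7 [3, 7, 3, 7, 3, 7, 3, 10] (sel (ones 5586) ip7 10) = true := by decide +kernel

theorem rot7_10r : band (Rule.ok (2 * 0) EX RL ⟨7 :: [3, 7, 3, 7, 3, 7, 3, 10], [], 16, true⟩) (lall (memL L) [3, 7, 3, 7, 3, 7, 3, 10]) = true := by decide +kernel

theorem rot7_11 : T.rot 7 [3, 7, 3, 7, 3, 10, 7, 3] (sel (ones 5586) ip7 11) = true := by decide +kernel

theorem rot7_11r : band (Rule.ok (2 * 0) EX RL ⟨7 :: [3, 7, 3, 7, 3, 10, 7, 3], [2, 5], 16, true⟩) (lall (memL L) [3, 7, 3, 7, 3, 10, 7, 3]) = true := by decide +kernel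

theorem rot7_12 : T.rot 7 [3, 7, 3, 10, 7, 3, 7, 3] (sel (ones 5586) ip7 12) = true := by decide +kernel

theorem rot7_12r : band (Rule.ok (2 * 0) EX RL ⟨7 :: [3, 7, 3, 10, 7, 3, 7, 3], [2, 5, 2, 5], 16, true⟩) (lall (memL L) [3, 7, 3, 10, 7, 3, 7, 3]) = true := by decide +kernel

theorem rot7_13 : T.rot 7 [3, 10, 7, 3, 7, 3, 7, 3] (sel (ones 5586) ip7 13) = true := by decide +kernel

theorem rot7_13r : band (Rule.ok (2 * 0) EX RL ⟨7 :: [3, 10, 7, 3, 7, 3, 7, 3], [9, 4, 3], 16, true⟩) (lall (memL L) [3, 10, 7, 3, 7, 3, 7, 3]) = true := by decide +kernel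

theorem rot7_14 : T.rot 7 [3, 7, 3, 7, 3, 7, 3, 7, 3, 7, 3, 7, 3, 7, 3] (sel (ones 5586) ip7 14) = true := by decide +kernel

theorem rot7_14r : band (Rule.ok (2 * 0) EX RL ⟨7 :: [3, 7, 3, 7, 3, 7, 3, 7, 3, 7, 3, 7, 3, 7, 3], [3], 9, true⟩) (lall (memL L) [3, 7, 3, 7, 3, 7, 3, 7, 3, 7, 3, 7, 3, 7, 3]) = true := by decide +kernel

theorem cov7 : T.cover 7 [(sel (ones 5586) ip7 1), (sel (ones 5586) ip7 2), (sel (ones 5586) ip7 3), (sel (ones 5586) ip7 4), (sel (ones 5586) ip7 5), (sel (ones 5586) ip7 6), (sel (ones 5586) ip7 7), (sel (ones 5586) ip7 8), (sel (ones 5586) ip7 9), (sel (ones 5586) ip7 10), (sel (ones 5586) ip7 11), (sel (ones 5586) ip7 12), (sel (ones 5586) ip7 13), (sel (ones 5586) ip7 14)] = true := by decide +kernel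

theorem tl7 : Nat.beq (T.let 7).tt 0 = true := by decide +kernel

theorem rot8_1 : T.rot 8 [3] (sel (ones 5586) ip8 1) = true := by decide +kernel

theorem rot8_1r : band (Rule.ok (2 * 0) EX RL ⟨8 :: [3], [], 17, false⟩) (lall (memL L) [3]) = true := by decide +kernel

theorem rot8_2 : T.rot 8 [8] (sel (ones 5586) ip8 2) = true := by decide +kernel

theorem rot8_2r : band (Rule.ok (2 * 0) EX RL ⟨8 :: [8], [], 2, false⟩) (lall (memL L) [8]) = true := by decide +kernel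

theorem rot8_3 : T.rot 8 [1, 8, 1] (sel (ones 5586) ip8 3) = true := by decide +kernel

theorem rot8_3r : band (Rule.ok (2 * 0) EX RL ⟨8 :: [1, 8, 1], [5], 6, false⟩) (lall (memL L) [1, 8, 1]) = true := by decide +kernel

theorem rot8_4 : T.rot 8 [5, 8, 5] (sel (ones 5586) ip8 4) = true := by decide +kernel

theorem rot8_4r : band (Rule.ok (2 * 0) EX RL ⟨8 :: [5, 8, 5], [5], 13, true⟩) (lall (memL L) [5, 8, 5]) = true := by decide +kernel

theorem rot8_5 : T.rot 8 [4, 8, 4, 8, 4] (sel (ones 5586) ip8 5) = true := by decide +kernel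

theorem rot8_5r : band (Rule.ok (2 * 0) EX RL ⟨8 :: [4, 8, 4, 8, 4], [5], 12, true⟩) (lall (memL L) [4, 8, 4, 8, 4]) = true := by decide +kernel

theorem rot8_6 : T.rot 8 [2, 8, 2, 8, 2, 8, 5, 2] (sel (ones 5586) ip8 6) = true := by decide +kernel

theorem rot8_6r : band (Rule.ok (2 * 0) EX RL ⟨8 :: [2, 8, 2, 8, 2, 8, 5, 2], [3], 15, true⟩) (lall (memL L) [2, 8, 2, 8, 2, 8, 5, 2]) = true := by decide +kernel

theorem rot8_7 : T.rot 8 [2, 8, 2, 8, 5, 2, 8, 2] (sel (ones 5586) ip8 7) = true := by decide +kernel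

theorem rot8_7r : band (Rule.ok (2 * 0) EX RL ⟨8 :: [2, 8, 2, 8, 5, 2, 8, 2], [3, 4, 3], 15, true⟩) (lall (memL L) [2, 8, 2, 8, 5, 2, 8, 2]) = true := by decide +kernel

theorem rot8_8 : T.rot 8 [2, 8, 5, 2, 8, 2, 8, 2] (sel (ones 5586) ip8 8) = true := by decide +kernel

theorem rot8_8r : band (Rule.ok (2 * 0) EX RL ⟨8 :: [2, 8, 5, 2, 8, 2, 8, 2], [8, 5, 2, 5], 15, true⟩) (lall (memL L) [2, 8, 5, 2, 8, 2, 8, 2]) = true := by decide +kernel

theorem rot8_9 : T.rot 8 [5, 2, 8, 2, 8, 2, 8, 2] (sel (ones 5586) ip8 9) = true := by decide +kernel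

theorem rot8_9r : band (Rule.ok (2 * 0) EX RL ⟨8 :: [5, 2, 8, 2, 8, 2, 8, 2], [8, 5], 15, true⟩) (lall (memL L) [5, 2, 8, 2, 8, 2, 8, 2]) = true := by decide +kernel

theorem rot8_10 : T.rot 8 [2, 8, 2, 8, 2, 8, 2, 5] (sel (ones 5586) ip8 10) = true := by decide +kernel

theorem rot8_10r : band (Rule.ok (2 * 0) EX RL ⟨8 :: [2, 8, 2, 8, 2, 8, 2, 5], [9], 16, false⟩) (lall (memL L) [2, 8, 2, 8, 2, 8, 2, 5]) = true := by decide +kernel

theorem rot8_11 : T.rot 8 [2, 8, 2, 8, 2, 5, 8, 2] (sel (ones 5586) ip8 11) = true := by decide +kernel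

theorem rot8_11r : band (Rule.ok (2 * 0) EX RL ⟨8 :: [2, 8, 2, 8, 2, 5, 8, 2], [9, 4, 3], 16, false⟩) (lall (memL L) [2, 8, 2, 8, 2, 5, 8, 2]) = true := by decide +kernel

theorem rot8_12 : T.rot 8 [2, 8, 2, 5, 8, 2, 8, 2] (sel (ones 5586) ip8 12) = true := by decide +kernel

theorem rot8_12r : band (Rule.ok (2 * 0) EX RL ⟨8 :: [2, 8, 2, 5, 8, 2, 8, 2], [2, 5, 2, 5], 16, false⟩) (lall (memL L) [2, 8, 2, 5, 8, 2, 8, 2]) = true := by decide +kernel

theorem rot8_13 : T.rot 8 [2, 5, 8, 2, 8, 2, 8, 2] (sel (ones 5586) ip8 13) = true := by decide +kernel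

theorem rot8_13r : band (Rule.ok (2 * 0) EX RL ⟨8 :: [2, 5, 8, 2, 8, 2, 8, 2], [2, 5], 16, false⟩) (lall (memL L) [2, 5, 8, 2, 8, 2, 8, 2]) = true := by decide +kernel

theorem rot8_14 : T.rot 8 [2, 8, 2, 8, 2, 8, 2, 8, 2, 8, 2, 8, 2, 8, 2] (sel (ones 5586) ip8 14) = true := by decide +kernel

theorem rot8_14r : band (Rule.ok (2 * 0) EX RL ⟨8 :: [2, 8, 2, 8, 2, 8, 2, 8, 2, 8, 2, 8, 2, 8, 2], [5], 9, false⟩) (lall (memL L) [2, 8, 2, 8, 2, 8, 2, 8, 2, 8, 2, 8, 2, 8, 2]) = true := by decide +kernel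

theorem cov8 : T.cover 8 [(sel (ones 5586) ip8 1), (sel (ones 5586) ip8 2), (sel (ones 5586) ip8 3), (sel (ones 5586) ip8 4), (sel (ones 5586) ip8 5), (sel (ones 5586) ip8 6), (sel (ones 5586) ip8 7), (sel (ones 5586) ip8 8), (sel (ones 5586) ip8 9), (sel (ones 5586) ip8 10), (sel (ones 5586) ip8 11), (sel (ones 5586) ip8 12), (sel (ones 5586) ip8 13), (sel (ones 5586) ip8 14)] = true := by decide +kernel

theorem tl8 : Nat.beq (T.let 8).tt 0 = true := by decide +kernel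

theorem rot9_1 : T.rot 9 [4] (sel (ones 5586) ip9 1) = true := by decide +kernel

theorem rot9_1r : band (Rule.ok (2 * 0) EX RL ⟨9 :: [4], [], 17, false⟩) (lall (memL L) [4]) = true := by decide +kernel

theorem rot9_2 : T.rot 9 [9] (sel (ones 5586) ip9 2) = true := by decide +kernel

theorem rot9_2r : band (Rule.ok (2 * 0) EX RL ⟨9 :: [9], [], 3, false⟩) (lall (memL L) [9]) = true := by decide +kernel

theorem rot9_3 : T.rot 9 [1, 9, 1] (sel (ones 5586) ip9 3) = true := by decide +kernel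

theorem rot9_3r : band (Rule.ok (2 * 0) EX RL ⟨9 :: [1, 9, 1], [7], 7, false⟩) (lall (memL L) [1, 9, 1]) = true := by decide +kernel

theorem rot9_4 : T.rot 9 [2, 9, 2] (sel (ones 5586) ip9 4) = true := by decide +kernel

theorem rot9_4r : band (Rule.ok (2 * 0) EX RL ⟨9 :: [2, 9, 2], [7], 10, false⟩) (lall (memL L) [2, 9, 2]) = true := by decide +kernel

theorem rot9_5 : T.rot 9 [3, 9, 3, 9, 3] (sel (ones 5586) ip9 5) = true := by decide +kernel

theorem rot9_5r : band (Rule.ok (2 * 0) EX RL ⟨9 :: [3, 9, 3, 9, 3], [7], 12, false⟩) (lall (memL L) [3, 9, 3, 9, 3]) = true := by decide +kernel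

theorem rot9_6 : T.rot 9 [5, 9, 5, 9, 5] (sel (ones 5586) ip9 6) = true := by decide +kernel

theorem rot9_6r : band (Rule.ok (2 * 0) EX RL ⟨9 :: [5, 9, 5, 9, 5], [7], 14, true⟩) (lall (memL L) [5, 9, 5, 9, 5]) = true := by decide +kernel

theorem cov9 : T.cover 9 [(sel (ones 5586) ip9 1), (sel (ones 5586) ip9 2), (sel (ones 5586) ip9 3), (sel (ones 5586) ip9 4), (sel (ones 5586) ip9 5), (sel (ones 5586) ip9 6)] = true := by decide +kernel

theorem tl9 : Nat.beq (T.let 9).tt 0 = true := by decide +kernel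

theorem rot10_1 : T.rot 10 [5] (sel (ones 5586) ip10 1) = true := by decide +kernel

theorem rot10_1r : band (Rule.ok (2 * 0) EX RL ⟨10 :: [5], [], 17, false⟩) (lall (memL L) [5]) = true := by decide +kernel

theorem rot10_2 : T.rot 10 [10] (sel (ones 5586) ip10 2) = true := by decide +kernel

theorem rot10_2r : band (Rule.ok (2 * 0) EX RL ⟨10 :: [10], [], 4, false⟩) (lall (memL L) [10]) = true := by decide +kernel

theorem rot10_3 : T.rot 10 [1, 10, 1] (sel (ones 5586) ip10 3) = true := by decide +kernel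

theorem rot10_3r : band (Rule.ok (2 * 0) EX RL ⟨10 :: [1, 10, 1], [9], 8, false⟩) (lall (memL L) [1, 10, 1]) = true := by decide +kernel

theorem rot10_4 : T.rot 10 [2, 10, 2] (sel (ones 5586) ip10 4) = true := by decide +kernel

theorem rot10_4r : band (Rule.ok (2 * 0) EX RL ⟨10 :: [2, 10, 2], [9], 11, false⟩) (lall (memL L) [2, 10, 2]) = true := by decide +kernel

theorem rot10_5 : T.rot 10 [3, 10, 3] (sel (ones 5586) ip10 5) = true := by decide +kernel

theorem rot10_5r : band (Rule.ok (2 * 0) EX RL ⟨10 :: [3, 10, 3], [9], 13, false⟩) (lall (memL L) [3, 10, 3]) = true := by decide +kernel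

theorem rot10_6 : T.rot 10 [4, 10, 4, 10, 4] (sel (ones 5586) ip10 6) = true := by decide +kernel

theorem rot10_6r : band (Rule.ok (2 * 0) EX RL ⟨10 :: [4, 10, 4, 10, 4], [9], 14, false⟩) (lall (memL L) [4, 10, 4, 10, 4]) = true := by decide +kernel

theorem rot10_7 : T.rot 10 [3, 7, 3, 7, 3, 7, 3, 7] (sel (ones 5586) ip10 7) = true := by decide +kernel

theorem rot10_7r : band (Rule.ok (2 * 0) EX RL ⟨10 :: [3, 7, 3, 7, 3, 7, 3, 7], [], 15, false⟩) (lall (memL L) [3, 7, 3, 7, 3, 7, 3, 7]) = true := by decide +kernel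

theorem rot10_8 : T.rot 10 [7, 3, 7, 3, 7, 3, 7, 3] (sel (ones 5586) ip10 8) = true := by decide +kernel

theorem rot10_8r : band (Rule.ok (2 * 0) EX RL ⟨10 :: [7, 3, 7, 3, 7, 3, 7, 3], [9], 16, true⟩) (lall (memL L) [7, 3, 7, 3, 7, 3, 7, 3]) = true := by decide +kernel

theorem cov10 : T.cover 10 [(sel (ones 5586) ip10 1), (sel (ones 5586) ip10 2), (sel (ones 5586) ip10 3), (sel (ones 5586) ip10 4), (sel (ones 5586) ip10 5), (sel (ones 5586) ip10 6), (sel (ones 5586) ip10 7), (sel (ones 5586) ip10 8)] = true := by decide +kernel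

theorem tl10 : Nat.beq (T.let 10).tt 0 = true := by decide +kernel

end Cfsg.Agent.Spor.L37a
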